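import Mathlib
import Cfsg.Agent.Lib.NPS.Num
import Cfsg.Agent.S4508
import Cfsg.Agent.S0205

/-! See `blueprint/NPS/README.md`. -/

set_option autoImplicit false
set_option linter.unusedSectionVars false
set_option linter.unusedVariables false
set_option linter.style.haveILetI false

open Cfsg H17.Ord H84 MulAction
open H86 (Cen Nor)
open scoped Pointwise ComplexConjugate

namespace NPS

variable {G : Type*} [Group G] [Finite G] {p : ℕ} [hp : Fact p.Prime] {P : Subgroup G}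
  {e t A B a c r : ℕ}

theorem sum_fd_dg (K : Subgroup G) : ∑ χ : IrrCharacter G, fd K χ * dg χ = K.index := by
  classical
  haveI := Fintype.ofFinite K
  have hK : (Nat.card K : ℂ) ≠ 0 := Nat.cast_ne_zero.2 Nat.card_pos.ne'
  have h1 : (Nat.card K : ℂ) * ((∑ χ : IrrCharacter G, fd K χ * dg χ : ℕ) : ℂ) =
      ∑ k : K, ∑ χ : IrrCharacter G, (χ : G → ℂ) 1 * (χ : G → ℂ) k := by
    rw [Finset.sum_comm, Nat.cast_sum, Finset.mul_sum]
    refine Finset.sum_congr rfl fun χ _ => ?_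
    rw [Nat.cast_mul, ← mul_assoc, card_mul_fd K (irr_chr χ), ← Finset.mul_sum, dg_cast, mul_comm]
  rw [Finset.sum_eq_single (1 : K) (fun k _ hk => H6.sum_irr_one_mul fun e => hk (Subtype.ext e))
    (fun h => absurd (Finset.mem_univ _) h)] at h1
  have h2 := H6.sum_irr_one_sq (G := G)
  simp only [sq] at h2
  rw [OneMemClass.coe_one, h2, ← Subgroup.card_mul_index K, Nat.cast_mul] at h1
  exact_mod_cast mul_left_cancel₀ hK h1

theorem sum_sq : ∑ χ : IrrCharacter G, dg χ * dg χ = Nat.card G := by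
  simpa only [sq] using sum_dg_sq (G := G)

theorem index_P (D : PB G p P e) (hC : Cen P = P) : P.index = e * (Nor P).index := by
  rw [← index_Cen D, hC]

theorem Bas.reg (D : PB G p P e) (hC : Cen P = P) {y : G} (hy : y ∈ Nor P) (hyP : y ∉ P) :
    ¬ p ∣ orderOf y := fun hs => by
  obtain ⟨g, hg⟩ := exists_conj_mem_Cen_of_sing D.card D.ind hs
  rw [hC] at hg
  have h1 : (g * y * g⁻¹) ^ p = 1 := by
    have := pow_card_eq_one' (G := P) (x := ⟨_, hg⟩)
    rw [D.card] at this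
    exact congrArg Subtype.val this
  rw [conj_pow] at h1
  have h2 : y ^ p = 1 := by simpa using h1
  exact hyP (mem_of_isPElt_of_mem_Nor D.card D.ind (H35.isPElt_iff_pow.2 ⟨1, by rw [pow_one, h2]⟩) hy)

theorem Bas.order_r (D : PB G p P e) (hC : Cen P = P) (L : Log p P) {y : G} (hy : y ∈ Nor P)
    (hyP : y ∉ P) : orderOf (L.r ⟨y, hy⟩) = orderOf y := by
  refine Nat.dvd_antisymm ?_ ?_
  · rw [← Subgroup.orderOf_mk y hy]
    exact orderOf_map_dvd _ _
  · apply orderOf_dvd_of_pow_eq_one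
    have h1 : y ^ orderOf (L.r ⟨y, hy⟩) ∈ P := by
      have := (L.r_eq_one (⟨y, hy⟩ ^ orderOf (L.r ⟨y, hy⟩))).1 (by rw [map_pow, pow_orderOf_eq_one])
      rw [hC] at this
      exact this
    by_contra h2
    exact Bas.reg D hC hy hyP ((PB_sing D h1 h2).trans (orderOf_pow_dvd _))

theorem exists_gen (D : PB G p P e) (hC : Cen P = P) : ∃ y ∈ Nor P, orderOf y = e := by
  obtain ⟨L⟩ := PB_log D
  by_cases he : e = 1
  · exact ⟨1, one_mem _, by rw [he, orderOf_one]⟩
  obtain ⟨g, hg⟩ := IsCyclic.exists_ofOrder_eq_natCard (α := L.r.range)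
  rw [L.card_range, D.he, ← Subgroup.orderOf_coe] at hg
  obtain ⟨⟨y, hy⟩, hy2⟩ := g.2
  rw [← hy2] at hg
  have hyP : y ∉ P := fun h => he (by
    rw [← hg, (L.r_eq_one ⟨y, hy⟩).2 (by rw [hC]; exact h), orderOf_one])
  exact ⟨y, hy, by rw [← Bas.order_r D hC L hy hyP, hg]⟩

theorem gen_of_order (D : PB G p P e) (hC : Cen P = P) (he : 1 < e) {y : G} (hy : y ∈ Nor P)
    (ho : orderOf y = e) : y ∉ P ∧ ∀ n ∈ Nor P, ∃ k : ℕ, (y ^ k)⁻¹ * n ∈ P := by
  obtain ⟨L⟩ := PB_log D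
  have hyP : y ∉ P := fun h => by
    have h1 : y ≠ 1 := by
      rintro rfl
      rw [orderOf_one] at ho
      omega
    have h2 := (ho ▸ PB_sing D h h1 : p ∣ e).trans D.e_dvd
    have h3 := hp.out.two_le
    have := Nat.le_of_dvd (by omega) h2
    omega
  refine ⟨hyP, fun n hn => ?_⟩
  have h1 : Subgroup.zpowers (L.r ⟨y, hy⟩) = L.r.range := by
    refine Subgroup.eq_of_le_of_card_ge (Subgroup.zpowers_le.2 ⟨_, rfl⟩) ?_
    rw [Nat.card_zpowers, Bas.order_r D hC L hy hyP, ho, L.card_range, D.he]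
  have h2 : L.r ⟨n, hn⟩ ∈ Subgroup.zpowers (L.r ⟨y, hy⟩) := by rw [h1]; exact ⟨_, rfl⟩
  obtain ⟨k, hk⟩ := (mem_powers_iff_mem_zpowers.2 h2)
  refine ⟨k, ?_⟩
  have := (L.r_eq_one ((⟨y, hy⟩ ^ k)⁻¹ * ⟨n, hn⟩)).1 (by
    rw [map_mul, map_inv, map_pow, show L.r ⟨y, hy⟩ ^ k = L.r ⟨n, hn⟩ from hk, inv_mul_cancel])
  rw [hC] at this
  exact this

theorem reg_of_not_mem (D : PB G p P e) (hC : Cen P = P) {y : G} (hy : y ∈ Nor P) (hyP : y ∉ P) :
    ¬ p ∣ orderOf y := Bas.reg D hC hy hyP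

theorem Ctx.perfect (h : Ctx p P e t A B a c r) : commutator G = ⊤ := by
  haveI := h.simple
  refine ((inferInstance : (commutator G).Normal).eq_bot_or_eq_top).resolve_left fun e => h.nc ?_
  refine ⟨⟨fun x y => ?_⟩⟩
  have := Subgroup.commutator_mem_commutator (Subgroup.mem_top x) (Subgroup.mem_top y)
  rw [← commutator_def, e, Subgroup.mem_bot] at this
  exact commutatorElement_eq_one_iff_mul_comm.1 this

theorem Ctx.one_lt (h : Ctx p P e t A B a c r) (D : PB G p P e) : 1 < e := by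
  have h1 := e_ne_one D h.perfect
  have h2 := D.e_pos
  omega

theorem Ctx.faithful (h : Ctx p P e t A B a c r) {χ : IrrCharacter G} (h1 : dg χ ≠ 1) {g : G}
    (hg : (χ : G → ℂ) g = (χ : G → ℂ) 1) : g = 1 := by
  haveI := h.simple
  refine eq_one_of_apply_eq (χ := χ) (fun e => h1 (by rw [e, dg_triv])) ?_
  rw [hg, dg_cast]

theorem Ctx.even (h : Ctx p P e t A B a c r) (D : PB G p P e) (hC : Cen P = P) : 2 ∣ a * c := by
  haveI := h.simple
  have h5 := h.par.five_le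
  rw [← h.idx]
  refine even_index h.nc D hC (by omega) ?_
  by_contra h2
  have ho : Odd (Nat.card G) := Nat.not_even_iff_odd.1 fun e => h2 (even_iff_two_dvd.1 e)
  exact h.nc ⟨⟨IsSimpleGroup.comm_iff_isSolvable.2 (Cfsg.Agent.S0205.result ho)⟩⟩

theorem Ctx.even_t (h : Ctx p P e t A B a c r) (D : PB G p P e) (hC : Cen P = P)
    {χ : IrrCharacter G} (hχ : dg χ + 1 = p) : Even t := by
  obtain ⟨x, hx, ho⟩ := D.exists_sing
  have h1 : x ≠ 1 := by
    rintro rfl
    rw [orderOf_one] at ho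
    exact hp.out.one_lt.ne ho
  have hP : P = Subgroup.zpowers x := eq_zpowers_of_card D.card hx h1
  have hc : Subgroup.centralizer ({x} : Set G) = Subgroup.zpowers x := by
    rw [← hP, ← hC, hP, Subgroup.zpowers_eq_closure]
    exact (Subgroup.centralizer_closure _).symm
  have h2 := (⟨ho, hc⟩ : SC p x).card_classes
  have h3 := D.he
  rw [show Subgroup.centralizer (P : Set G) = P from hC] at h3
  rw [← hP, show P.relIndex (Nor P) = e from h3] at h2
  have h4 := h.ht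
  have h5 : Nat.card {C : ConjClasses G // ∃ g ∈ C.carrier, orderOf g = p} = t :=
    Nat.eq_of_mul_eq_mul_right D.e_pos (by omega)
  refine (Cfsg.Agent.S4508.result p hp.out x ho hc t h5 χ hχ).resolve_right ?_
  rw [h.perfect, Subgroup.index_top]
  decide

theorem Ctx.fdA (h : Ctx p P e t A B a c r) (D : PB G p P e) (F : Fam G p t A B a c) :
    (∀ χ ∈ F.XA, fd P χ = A) ∧ (∀ χ ∈ F.XM, fd P χ = r + 1) ∧ (∀ χ ∈ F.Xz, fd P χ = 0) ∧
      ∀ χ ∈ F.XB, fd P χ = B := by
  have hp0 : (p : ℂ) ≠ 0 := Nat.cast_ne_zero.2 hp.out.ne_zero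
  have key : ∀ (χ : IrrCharacter G) (s : ℂ) (n : ℕ), (∀ g, p ∣ orderOf g → (χ : G → ℂ) g = s) →
      (dg χ : ℂ) + (p - 1) * s = p * n → fd P χ = n := fun χ s n h1 h2 => by
    have h3 := mul_fd_of_const D (irr_chr χ) (c := s) fun x hx hx1 => h1 x (PB_sing D hx hx1)
    rw [dg_cast, h2] at h3
    exact_mod_cast mul_left_cancel₀ hp0 h3
  refine ⟨fun χ hχ => key χ 1 _ (F.vA χ hχ) ?_, fun χ hχ => key χ 1 _ (F.vM χ hχ) ?_,
    fun χ hχ => key χ (-1) _ (F.vz χ hχ) ?_, fun χ hχ => key χ (-1) _ (F.vB χ hχ) ?_⟩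
  · have := congrArg (Nat.cast : ℕ → ℂ) h.par.X_eq
    rw [F.dA χ hχ]
    push_cast at this ⊢
    linear_combination this
  · have := congrArg (Nat.cast : ℕ → ℂ) h.par.M_eq
    rw [F.dM χ hχ]
    push_cast at this ⊢
    linear_combination this
  · have := congrArg (Nat.cast : ℕ → ℂ) (F.dz χ hχ)
    push_cast at this ⊢
    linear_combination this
  · have := congrArg (Nat.cast : ℕ → ℂ) h.par.Y_eq
    rw [F.dB χ hχ]
    push_cast at this ⊢
    linear_combination this

theorem Bas.sq_le (h : Ctx p P e t A B a c r) (D : PB G p P e) (hC : Cen P = P)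
    {S : Finset (IrrCharacter G)} {d : ℕ} (hd : ∀ χ ∈ S, dg χ = d) :
    S.card * d ^ 2 ≤ p * e * (a * c) := by
  have h1 := sum_dg_sq_le S
  rw [Finset.sum_congr rfl fun χ hχ => by rw [hd χ hχ], Finset.sum_const, smul_eq_mul,
    card_eq_of_selfcent D hC, h.idx, ← mul_assoc] at h1
  exact h1

theorem Ctx.XM_empty (h : Ctx p P e t A B a c r) (D : PB G p P e) (hC : Cen P = P) (h2 : 2 ≤ t)
    (F : Fam G p t A B a c) : F.XM = ∅ := by
  by_contra hne
  have h1 : 1 ≤ F.XM.card := Finset.card_pos.2 (Finset.nonempty_iff_ne_empty.2 hne)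
  have h3 := Bas.sq_le h D hC F.dM
  have h4 := h.par.big
  have h5 := h.ht
  generalize a * c = M at h3 h4
  have hM : 0 < M := by omega
  have h6 : M * M ≤ p * e * M := by nlinarith
  have h7 : M ≤ p * e := Nat.le_of_mul_le_mul_right h6 hM
  have h8 : 2 * e ≤ p - 1 := by
    have : 2 * e ≤ t * e := Nat.mul_le_mul_right _ h2
    omega
  have h9 : p * (2 * e) ≤ p * (p - 1) := Nat.mul_le_mul_left _ h8
  nlinarith

theorem Ctx.XM_le (h : Ctx p P e t A B a c r) (D : PB G p P e) (hC : Cen P = P)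
    (F : Fam G p t A B a c) : F.XM.card ≤ 1 ∧ F.XN = ∅ := by
  have h3 := Bas.sq_le h D hC F.dM
  have h3' := Bas.sq_le h D hC F.dN
  have h4 := h.par.big
  have h5 := h.par.five_le
  have h8 : e ≤ p - 1 := Nat.le_of_dvd (by omega) D.e_dvd
  generalize a * c = M at h3 h3' h4
  have hM : 0 < M := by omega
  have h9 : p * e ≤ p * (p - 1) := Nat.mul_le_mul_left _ h8
  have h10 : p * e * M < 2 * M * M := Nat.mul_lt_mul_of_pos_right (by omega) hM
  constructor
  · by_contra h1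
    have : 2 * M ^ 2 ≤ F.XM.card * M ^ 2 := Nat.mul_le_mul_right _ (by omega)
    nlinarith
  · by_contra hne
    have h1 : 1 ≤ F.XN.card := Finset.card_pos.2 (Finset.nonempty_iff_ne_empty.2 hne)
    have h2 : 1 * ((p - 1) * M) ^ 2 ≤ F.XN.card * ((p - 1) * M) ^ 2 := Nat.mul_le_mul_right _ h1
    have h6 : 2 * M ≤ (p - 1) * M := Nat.mul_le_mul_right _ (by omega)
    have h7 : (2 * M) ^ 2 ≤ ((p - 1) * M) ^ 2 := Nat.pow_le_pow_left h6 2
    nlinarith

end NPS
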