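import Mathlib
import Cfsg.Agent.Lib.NPS.Int
import Cfsg.Agent.Lib.NPS.Bas

/-! Counting the conjugates of a generator of the complement that lie in the normaliser. -/

set_option autoImplicit false
set_option linter.unusedSectionVars false
set_option linter.unusedVariables false
set_option linter.style.haveILetI false

open Cfsg H17.Ord H84 MulAction
open H86 (Cen Nor)
open scoped Pointwise ComplexConjugate

namespace NPS

variable {G : Type*} [Group G] [Finite G] {p : ℕ} [hp : Fact p.Prime] {P : Subgroup G}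
  {e t A B a c r : ℕ}

theorem C3a.le_inner {H : Type*} [Group H] [Fintype H] (K : Subgroup H) [K.Normal]
    (hc : ∀ a b : H ⧸ K, a * b = b * a) {ψ : H → ℂ} (hψ : IsCharacter H ψ) (hK : ∀ x ∈ K, ψ x = ψ 1)
    {m k : ℕ} (h1 : ψ 1 = m) (h2 : classInner ψ ψ = k) : m ≤ k := by
  haveI := Fintype.ofFinite (H ⧸ K)
  obtain ⟨φ, hφ, e⟩ := H6.exists_char_quotient hψ K hK
  have e1 := H6.classInner_comp_surjective (QuotientGroup.mk' K) (QuotientGroup.mk'_surjective K) φ φ
  simp only [QuotientGroup.mk'_apply, e] at e1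
  obtain ⟨n, hn⟩ := H6.char_eq_sum_irr hφ
  have e2 := H6.inner_sum_irr_int (G := H ⧸ K) (fun χ => n χ) fun χ => n χ
  simp only [Int.cast_natCast] at e2
  rw [← hn, ← e1, h2] at e2
  have e3 := congrFun hn 1
  rw [← QuotientGroup.mk_one, e, h1, QuotientGroup.mk_one, Finset.sum_apply] at e3
  simp only [Pi.smul_apply, smul_eq_mul, fun χ : IrrCharacter (H ⧸ K) => H6.irr_one_eq_one_of_comm hc χ.2,
    mul_one] at e3
  have e4 : k = ∑ χ, n χ * n χ := by exact_mod_cast e2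
  have e5 : m = ∑ χ, n χ := by exact_mod_cast e3
  rw [e4, e5]
  exact Finset.sum_le_sum fun χ _ => Nat.le_mul_self _

theorem C3a.inner_avg {N K : Subgroup G} [Fintype N] (h : K ≤ N) {ψ : N → ℂ}
    (hψ : ∀ n k : N, (k : G) ∈ K → ψ (n * k) = ψ n) (φ : G → ℂ) :
    classInner ψ (fun n : N => φ n) = classInner ψ fun n : N => avg K n φ := by
  haveI := Fintype.ofFinite K
  rw [H6.classInner_def, H6.classInner_def]
  congr 1
  simp only [avg_apply, map_mul, map_sum, map_inv₀, map_natCast, Finset.mul_sum]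
  rw [Finset.sum_comm]
  have : ∀ k : K, ∑ n : N, ψ n * ((Nat.card K : ℂ)⁻¹ * conj (φ (n * k))) =
      (Nat.card K : ℂ)⁻¹ * ∑ n : N, ψ n * conj (φ n) := fun k => by
    rw [Finset.mul_sum]
    refine Fintype.sum_equiv (Equiv.mulRight (⟨k, h k.2⟩ : N)) _ _ fun n => ?_
    rw [Equiv.coe_mulRight, hψ n ⟨k, h k.2⟩ k.2, mul_left_comm]
    rfl
  simp only [this, Finset.sum_const, Finset.card_univ, nsmul_eq_mul, ← Nat.card_eq_fintype_card]
  rw [mul_inv_cancel_left₀ H6.card_ne_zero]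

theorem c3 (D : PB G p P e) (hC : Cen P = P) (ht : t * e + 1 = p) (he : 1 < e)
    {θ : IrrCharacter G} (hθ : θ ∈ D.Y) (hd : t * dg θ = (Nor P).index)
    (hv : ∀ y ∈ Nor P, orderOf y = e → (θ : G → ℂ) y = -1) {y : G} (hy : y ∈ Nor P)
    (ho : orderOf y = e) :
    Nat.card {g : G // g⁻¹ * y * g ∈ Nor P} = t * fd P θ * Nat.card (Nor P) := by
  classical
  haveI := Fintype.ofFinite G
  obtain ⟨hyP, hgen⟩ := gen_of_order D hC he hy ho
  have n1 : ¬ p ∣ orderOf (1 : G) := by rw [orderOf_one]; exact hp.out.not_dvd_one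
  have dY : ∀ θ' ∈ D.Y, dg θ' = dg θ := fun θ' h' => by
    have := D.regY θ' h' θ hθ 1 n1
    rw [dg_cast, dg_cast] at this
    exact_mod_cast this
  have fY : ∀ θ' ∈ D.Y, fd P θ' = fd P θ := fun θ' h' => by
    have := fdY D h'
    rw [dY θ' h', ← fdY D hθ] at this
    exact_mod_cast mul_left_cancel₀ (Nat.cast_ne_zero.2 hp.out.ne_zero) this
  have aP : ∀ χ : IrrCharacter G, ∀ x ∈ P, avg P x χ = fd P χ := fun χ x hx => by
    rw [fd_cast P (irr_chr χ), ← avg_mul_mem P 1 hx, one_mul]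
  have aY : ∀ θ' ∈ D.Y, (fun n : Nor P => avg P n θ') = fun n : Nor P => avg P n θ := fun θ' h' => by
    funext n
    by_cases hn : (n : G) ∈ P
    · rw [aP θ' _ hn, aP θ _ hn, fY θ' h']
    · rw [val_avg D hC n.2 hn, val_avg D hC n.2 hn, D.regY θ' h' θ hθ _ (reg_of_not_mem D hC n.2 hn)]
  have hψ : IsCharacter (Nor P) fun n => avg P n θ := isCharacter_avg le_rfl (irr_chr θ)
  set ψ : Nor P → ℂ := fun n => avg P n θ with hψd
  have ψ1 : ψ 1 = fd P θ := aP θ 1 (one_mem _)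
  obtain ⟨n, hn⟩ := H6.char_eq_sum_irr (H7.isCharacter_indFun (Nor P) hψ)
  have hle : ∀ θ' ∈ D.Y, fd P θ ≤ n θ' := fun θ' h' => by
    refine C3a.le_inner (P.subgroupOf (Nor P)) (fun u v => ?_) hψ
      (fun x hx => by rw [ψ1]; exact aP θ x hx) ψ1 ?_
    · have : ∀ u : Nor P ⧸ P.subgroupOf (Nor P), ∃ k : ℕ, ((⟨y, hy⟩ : Nor P) : _ ⧸ _) ^ k = u := fun u => by
        obtain ⟨u, rfl⟩ := QuotientGroup.mk_surjective u
        obtain ⟨k, hk⟩ := hgen u u.2
        exact ⟨k, by rw [← QuotientGroup.mk_pow, QuotientGroup.eq]; exact hk⟩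
      obtain ⟨i, rfl⟩ := this u
      obtain ⟨j, rfl⟩ := this v
      exact pow_mul_comm _ _ _
    · rw [← H6.inner_sum_irr (fun χ => (n χ : ℂ)) θ', ← hn, H7.classInner_indFun_left _ _ (irr_cls θ'),
        C3a.inner_avg Subgroup.le_normalizer (fun n k hk => avg_mul_mem P n hk θ), aY θ' h']
  have cY : D.Y.card = t := by
    rw [D.cardY, show p - 1 = t * e by omega, Nat.mul_div_cancel _ (lt_trans one_pos he)]
  have e1 : ∑ χ, n χ * dg χ = ∑ θ' ∈ D.Y, fd P θ * dg θ' := by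
    have := congrFun hn 1
    rw [H7.indFun_one, ψ1, ← hd, Finset.sum_apply] at this
    simp only [Pi.smul_apply, smul_eq_mul, dg_cast] at this
    rw [Finset.sum_congr (s₁ := D.Y) rfl fun θ' h' => by rw [dY θ' h'], Finset.sum_const, cY, smul_eq_mul,
      mul_comm (fd P θ), ← mul_assoc]
    exact_mod_cast this.symm
  have e2 := Finset.sum_add_sum_compl D.Y fun χ => n χ * dg χ
  have e3 : ∑ θ' ∈ D.Y, fd P θ * dg θ' ≤ ∑ θ' ∈ D.Y, n θ' * dg θ' :=
    Finset.sum_le_sum fun θ' h' => Nat.mul_le_mul_right _ (hle θ' h')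
  have e4 : ∀ θ' ∈ D.Y, n θ' = fd P θ := fun θ' h' => Nat.eq_of_mul_eq_mul_right (dg_pos θ')
    (((Finset.sum_eq_sum_iff_of_le fun θ' h' => Nat.mul_le_mul_right (dg θ') (hle θ' h')).1 (by omega)
      θ' h').symm)
  have e5 : ∀ χ ∈ D.Yᶜ, n χ = 0 := fun χ h' =>
    (mul_eq_zero.1 (Finset.sum_eq_zero_iff.1 (show ∑ χ ∈ D.Yᶜ, n χ * dg χ = 0 by omega) χ h')).resolve_right
      (dg_pos χ).ne'
  have e6 : indFun (Nor P) ψ y = -(t * fd P θ) := by
    rw [hn, Finset.sum_apply, ← Finset.sum_add_sum_compl D.Y, Finset.sum_eq_zero (s := D.Yᶜ) fun χ h' => by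
      rw [e5 χ h', Nat.cast_zero, zero_smul, Pi.zero_apply], add_zero,
      Finset.sum_congr rfl fun θ' h' => by
        rw [e4 θ' h', Pi.smul_apply, D.regY θ' h' θ hθ y (reg_of_not_mem D hC hy hyP), hv y hy ho],
      Finset.sum_const, cY]
    simp
  have e7 := H7.card_mul_indFun (Nor P) ψ y
  have e8 : ∀ g : G, extendByZero (Nor P) ψ (g⁻¹ * y * g) = -if g⁻¹ * y * g ∈ Nor P then 1 else 0 := fun g => by
    split_ifs with hg
    · have og : orderOf (g⁻¹ * y * g) = e := by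
        rw [← ho]; simpa using H35.orderOf_conj y g⁻¹
      rw [H7.extendByZero_of_mem _ _ hg, hψd]
      exact (val_avg D hC hg (gen_of_order D hC he hg og).1 θ).trans (hv _ hg og)
    · rw [H7.extendByZero_of_not_mem _ _ hg, neg_zero]
  simp only [e6, e8, Finset.sum_neg_distrib, Finset.sum_boole, mul_neg, neg_inj] at e7
  rw [Nat.card_eq_fintype_card, Fintype.card_subtype, mul_comm]
  exact_mod_cast e7.symm

end NPS
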