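import Mathlib
import Cfsg.Agent.Lib.NPS.Bas
import Cfsg.Agent.Lib.Core.GrpBasic

/-! See `blueprint/NPS/README.md`. -/

set_option autoImplicit false
set_option linter.unusedSectionVars false
set_option linter.unusedVariables false
set_option linter.style.haveILetI false

open Cfsg H17.Ord H84 MulAction
open H86 (Cen Nor)
open scoped Pointwise ComplexConjugate

namespace NPS

variable {G : Type*} [Group G] [Finite G] {p : ℕ} [hp : Fact p.Prime] {P : Subgroup G}
  {e t A B a c r : ℕ}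

theorem C3b.fpf (D : PB G p P e) (hC : Cen P = P) {w : G} (hw : w ∉ P) :
    ∀ k ∈ P, k * w = w * k → k = 1 := by
  intro k hk hc
  by_contra h1
  have ho : orderOf k = p := by
    rcases (Nat.dvd_prime hp.out).1 (D.card ▸ P.orderOf_dvd_natCard hk) with h | h
    · exact absurd (orderOf_eq_one_iff.1 h) h1
    · exact h
  have hz : Subgroup.zpowers k = P :=
    Subgroup.eq_of_le_of_card_ge (Subgroup.zpowers_le.2 hk) (by rw [Nat.card_zpowers, ho, D.card])
  apply hw
  rw [← hC, Subgroup.mem_centralizer_iff]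
  intro u hu
  rw [← hz] at hu
  obtain ⟨i, rfl⟩ := Subgroup.mem_zpowers_iff.1 hu
  exact (Commute.zpow_left (show Commute k w from hc) i).eq

theorem C3b.norm {y h : G} (hh : h⁻¹ * y * h ∈ Subgroup.zpowers y) : h ∈ Nor (Subgroup.zpowers y) := by
  refine inv_mem_iff.1 (Subgroup.mem_normalizer_fintype ?_)
  intro n hn
  obtain ⟨i, rfl⟩ := Subgroup.mem_zpowers_iff.1 hn
  have e : h⁻¹ * y ^ i * h⁻¹⁻¹ = (h⁻¹ * y * h) ^ i := by
    rw [← conj_zpow, inv_inv]
  rw [e]
  exact Subgroup.zpow_mem _ hh i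

theorem c3b (D : PB G p P e) (hC : Cen P = P) (he : 1 < e) {y : G} (hy : y ∈ Nor P)
    (ho : orderOf y = e) {k : ℕ}
    (h : Nat.card {g : G // g⁻¹ * y * g ∈ Nor P} = k * Nat.card (Nor P)) :
    k ∣ p * (Nor P).index := by
  obtain ⟨hyP, gen⟩ := gen_of_order D hC he hy ho
  have hpe : ¬ p ∣ e := ho ▸ reg_of_not_mem D hC hy hyP
  have YN : Subgroup.zpowers y ≤ Nor P := Subgroup.zpowers_le.2 hy
  have PN : P ≤ Nor P := Subgroup.le_normalizer
  have YP : ∀ x ∈ Subgroup.zpowers y, x ∈ P → x = 1 := by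
    intro x hx hxP
    rcases (Nat.dvd_prime hp.out).1 (D.card ▸ P.orderOf_dvd_natCard hxP) with h | h
    · exact orderOf_eq_one_iff.1 h
    · exact absurd (by rw [← h, ← ho]; exact orderOf_dvd_of_mem_zpowers hx) hpe
  have hS : {g : G | g⁻¹ * y * g ∈ Nor P} =
      ((Nor (Subgroup.zpowers y) : Set G) * (Nor P : Set G) : Set G) := by
    ext g
    constructor
    · intro hg
      have hg' : g⁻¹ * y * g ∈ Nor P := hg
      have ow : orderOf (g⁻¹ * y * g) = e := by
        rw [← ho]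
        have := (MulAut.conj g⁻¹).orderOf_eq y
        simpa using this
      have wP := (gen_of_order D hC he hg' ow).1
      obtain ⟨j, hj⟩ := gen _ hg'
      have jP : y ^ j ∉ P := fun h' => wP (by simpa using mul_mem h' hj)
      obtain ⟨u, hu, e1⟩ := isConj_mul_of_fpf (pow_mem hy j) (C3b.fpf D hC jP) hj
      refine ⟨g * u, C3b.norm ?_, u⁻¹, inv_mem (PN hu), by simp⟩
      have e2 : (g * u)⁻¹ * y * (g * u) = y ^ j := by
        calc (g * u)⁻¹ * y * (g * u) = u⁻¹ * (y ^ j * ((y ^ j)⁻¹ * (g⁻¹ * y * g))) * u := by group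
          _ = y ^ j := by rw [← e1]; group
      rw [e2]
      exact pow_mem (Subgroup.mem_zpowers y) j
    · rintro ⟨a, ha, n, hn, rfl⟩
      have h1 : a⁻¹ * y * a ∈ Nor P :=
        YN ((Subgroup.mem_normalizer_iff''.1 ha y).1 (Subgroup.mem_zpowers y))
      have e1 : (a * n)⁻¹ * y * (a * n) = n⁻¹ * (a⁻¹ * y * a) * n := by group
      show (a * n)⁻¹ * y * (a * n) ∈ Nor P
      rw [e1]
      exact mul_mem (mul_mem (inv_mem hn) h1) hn
  have hI : Nor (Subgroup.zpowers y) ⊓ Nor P = Subgroup.zpowers y := by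
    refine le_antisymm ?_ (le_inf Subgroup.le_normalizer YN)
    rintro n ⟨n1, n2⟩
    obtain ⟨j, hj⟩ := gen n n2
    have jY : y ^ j ∈ Subgroup.zpowers y := pow_mem (Subgroup.mem_zpowers y) j
    have k1 : (y ^ j)⁻¹ * n ∈ Nor (Subgroup.zpowers y) := mul_mem (inv_mem (Subgroup.le_normalizer jY)) n1
    set u := (y ^ j)⁻¹ * n with hu
    have c1 : u * y * u⁻¹ * y⁻¹ ∈ Subgroup.zpowers y :=
      mul_mem ((Subgroup.mem_normalizer_iff.1 k1 y).1 (Subgroup.mem_zpowers y))
        (inv_mem (Subgroup.mem_zpowers y))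
    have c2 : u * y * u⁻¹ * y⁻¹ ∈ P := by
      have e1 : u * y * u⁻¹ * y⁻¹ = u * (y * u⁻¹ * y⁻¹) := by group
      rw [e1]
      exact mul_mem hj ((Subgroup.mem_normalizer_iff.1 hy _).1 (inv_mem hj))
    have c3 := YP _ c1 c2
    have c4 : u = 1 := C3b.fpf D hC hyP u hj (by
      calc u * y = u * y * u⁻¹ * y⁻¹ * (y * u) := by group
        _ = y * u := by rw [c3, one_mul])
    have c5 : n = y ^ j := (inv_mul_eq_one.1 (hu ▸ c4)).symm
    rw [c5]
    exact jY
  have hcount := H1.card_mul_set_mul_card_inf (Nor (Subgroup.zpowers y)) (Nor P)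
  rw [hI, ← hS, Nat.card_zpowers, ho] at hcount
  have h' : Nat.card ({g : G | g⁻¹ * y * g ∈ Nor P} : Set G) = k * Nat.card (Nor P) := h
  rw [h'] at hcount
  have hH : Nat.card (Nor (Subgroup.zpowers y)) = k * e := by
    refine Nat.eq_of_mul_eq_mul_right (Nat.card_pos (α := Nor P)) ?_
    rw [← hcount]; ring
  have hd := (Nor (Subgroup.zpowers y)).card_subgroup_dvd_card
  rw [hH, card_eq_of_selfcent D hC] at hd
  refine Nat.dvd_of_mul_dvd_mul_right (show 0 < e by omega) ?_
  rwa [show p * (Nor P).index * e = p * (e * (Nor P).index) by ring]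

end NPS
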