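import Mathlib
import Cfsg.Agent.Lib.NPS.Scal
import Cfsg.Agent.Lib.NPS.Bas

/-! See `blueprint/NPS/README.md`. -/

set_option autoImplicit false
set_option linter.unusedSectionVars false
set_option linter.unusedVariables false
set_option linter.style.haveILetI false

open Cfsg H17.Ord H84 MulAction
open H86 (Cen Nor)
open scoped Pointwise ComplexConjugate

namespace NPS

variable {G : Type*} [Group G] [Finite G] {p : ℕ} [hp : Fact p.Prime] {P : Subgroup G}
  {e t A B a c r : ℕ}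

namespace IB

theorem sum_eta_sq (L : Log p P) {i : ZMod p} (hi : i ≠ 0) :
    ∑ a, L.eta (i * a) * conj (L.eta (i * a)) = L.Hs.card * p := by
  classical
  have h1 : ∀ a, L.eta (i * a) * conj (L.eta (i * a)) =
      ∑ h ∈ L.Hs, ∑ k ∈ L.Hs, eps p (a * (((h : ZMod p) - k) * i)) := fun a => by
    rw [L.conj_eta, Log.eta, Log.eta, Finset.sum_mul_sum]
    refine Finset.sum_congr rfl fun h _ => Finset.sum_congr rfl fun k _ => ?_
    rw [← eps_add]
    congr 1
    ring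
  simp only [h1]
  rw [Finset.sum_comm, Finset.sum_congr rfl (g := fun _ => (p : ℂ)), Finset.sum_const, nsmul_eq_mul]
  intro h hh
  rw [Finset.sum_comm, Finset.sum_eq_single_of_mem h hh]
  · rw [sum_eps, if_pos (by simp)]
  · intro k _ hk
    rw [sum_eps, if_neg]
    intro e
    exact hk (Units.ext (sub_eq_zero.1 ((mul_eq_zero.1 e).resolve_right hi)).symm)

/-- fixed spaces of the normaliser for characters constant outside `P` -/
theorem fd_Nor (D : PB G p P e) (hC : Cen P = P) {φ : G → ℂ} (hφ : IsCharacter G φ) {v : ℂ}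
    (h : ∀ n ∈ Nor P, n ∉ P → φ n = v) : (e : ℂ) * fd (Nor P) φ = fd P φ + (e - 1) * v := by
  classical
  haveI := Fintype.ofFinite G
  have hle : P ≤ Nor P := Subgroup.le_normalizer
  have hp0 : (p : ℂ) ≠ 0 := Nat.cast_ne_zero.2 hp.out.ne_zero
  have hN : Nat.card (Nor P) = p * e := by rw [card_Nor_eq D, hC, D.card]
  have h1 := card_mul_fd (Nor P) hφ
  have h2 := card_mul_fd P hφ
  have h3 : ∑ n : Nor P, (φ n - v) = ∑ x : P, (φ x - v) := by
    rw [← Finset.sum_subtype (Finset.univ.filter (· ∈ Nor P)) (by simp) fun g => φ g - v,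
      ← Finset.sum_subtype (Finset.univ.filter (· ∈ P)) (by simp) fun g => φ g - v]
    refine (Finset.sum_subset (fun x hx => ?_) fun x hx hx' => ?_).symm
    · simp only [Finset.mem_filter, Finset.mem_univ, true_and] at hx ⊢
      exact hle hx
    · simp only [Finset.mem_filter, Finset.mem_univ, true_and] at hx hx'
      rw [h x hx hx', sub_self]
  rw [Finset.sum_sub_distrib, Finset.sum_sub_distrib, ← h1, ← h2, Finset.sum_const, Finset.sum_const,
    Finset.card_univ, Finset.card_univ, ← Nat.card_eq_fintype_card, ← Nat.card_eq_fintype_card, hN,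
    D.card, nsmul_eq_mul, nsmul_eq_mul] at h3
  apply mul_left_cancel₀ hp0
  push_cast at h3
  linear_combination h3

end IB

open IB

theorem fd_mul_conj (D : PB G p P e) (he : e < p - 1) {θ : IrrCharacter G} (hθ : θ ∈ D.Y) :
    p * (fd P fun g => (θ : G → ℂ) g * conj ((θ : G → ℂ) g)) + e * e = dg θ * dg θ + e * p := by
  haveI := Fintype.ofFinite P
  obtain ⟨L⟩ := PB_log D
  obtain ⟨E⟩ := nonempty_exc D L he
  obtain ⟨i, rfl⟩ := (E.memY θ).1 hθ
  have h7 : (D.δ : ℂ) * D.δ = 1 := by rcases D.dsgn with h | h <;> simp [h]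
  have h1 := sum_P_of_val L (φ := fun g => (E.ψ i : G → ℂ) g * conj ((E.ψ i : G → ℂ) g))
    (F := fun a => L.eta (i * a) * conj (L.eta (i * a))) fun x hx h1 => by
      simp only [E.val i x (L.le_Cen hx) (PB_sing D hx h1), map_mul, map_intCast]
      linear_combination L.eta (i * L.l x) * conj (L.eta (i * L.l x)) * h7
  rw [← card_mul_fd P (isCharacter_mul_conj (irr_chr _) (irr_chr _)), D.card,
    sum_eta_sq L i.ne_zero, L.card_Hs, mul_zero, L.eta_zero, D.he, dg_cast, map_natCast,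
    map_natCast] at h1
  apply Nat.cast_injective (R := ℂ)
  push_cast
  linear_combination h1

theorem Ctx.ib (h : Ctx p P e t A B a c r) (D : PB G p P e) (hC : Cen P = P) (hA : 3 ≤ A)
    (hB : B = A + 1) (ht : t = B) (he : e = A) (hδ : D.δ = 1) (hd : ∀ θ ∈ D.Y, dg θ = c)
    {F : Fam G p t A B a c} (hF : F.Two D) (h1 : F.XA.card = 1) (hM : F.XM = ∅) (hB' : F.XB = ∅) :
    A ≤ 6 := by
  classical
  subst he
  have hpA : p = e * e + e + 1 := by have := h.par.mul; rw [hB] at this; rw [← this]; ring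
  have hc : c = e * e + 2 * e + 1 := by rw [h.par.hc, hpA]; ring
  have he0 : (e : ℂ) ≠ 0 := Nat.cast_ne_zero.2 (by omega)
  have hp0 : (0 : ℤ) < p := by exact_mod_cast hp.out.pos
  have hlt : e < p - 1 := by
    have : 3 * 3 ≤ e * e := Nat.mul_le_mul hA hA
    omega
  obtain ⟨χ, hχ⟩ := Finset.card_eq_one.1 h1
  have hχ' : χ ∈ F.XA := hχ ▸ Finset.mem_singleton_self χ
  obtain ⟨fA, -, fz, -⟩ := h.fdA D F
  have fY : ∀ θ ∈ D.Y, fd P θ = 1 := fun θ hθ => by
    have h2 := fdY D hθ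
    rw [hδ, hd θ hθ, h.par.hc] at h2
    have : (fd P θ : ℤ) = 1 := mul_left_cancel₀ hp0.ne' (by rw [h2]; push_cast; ring)
    exact_mod_cast this
  have val : ∀ θ ∈ D.Y, ∀ n ∈ Nor P, n ∉ P → (θ : G → ℂ) n = 1 ∧ (χ : G → ℂ) n = 0 := by
    intro θ hθ n hn hnP
    have h2 := hF.rel θ hθ n (reg_of_not_mem D hC hn hnP)
    rw [Fam.sg, hχ, hM, hB', hF.nN, Finset.sum_eq_zero fun ζ hζ => val_zero D hC hn hnP (fz ζ hζ), hδ,
      triv_apply] at h2
    simp only [Finset.sum_singleton, Finset.sum_empty, Int.cast_one, one_mul, add_zero,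
      sub_zero] at h2
    obtain ⟨s, hs, h3⟩ := dvd_val D hC hn hnP (F.dA χ hχ') h.idx
      (Nat.Coprime.mul_right h.par.cop_pA.symm h.par.cop_cA.symm)
    obtain ⟨lam, hl⟩ := H6.exists_hom_of_char_one_eq_one
      (isCharacter_avg (K := P) (H := Nor P) le_rfl (irr_chr θ)) (by
        have := fd_cast P (irr_chr θ)
        rw [fY θ hθ, Nat.cast_one] at this
        exact this.symm)
    have h4 : (θ : G → ℂ) n = lam ⟨n, hn⟩ := by
      rw [← val_avg D hC hn hnP]; exact congrFun hl ⟨n, hn⟩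
    have h5 : (θ : G → ℂ) n ^ orderOf (⟨n, hn⟩ : Nor P) = 1 := by
      rw [h4, ← Units.val_pow_eq_pow_val, ← map_pow, pow_orderOf_eq_one, map_one, Units.val_one]
    have h6 := (nt1 (b := 1) (f := e) (orderOf_pos _) h5 hs (by rw [h2, h3]; simp) (by omega)).2
    exact ⟨h6, by linear_combination h6 - h2⟩
  obtain ⟨θ, hθ⟩ := D.Y_nonempty
  have hφ := isCharacter_mul_conj (irr_chr θ) (irr_chr θ)
  obtain ⟨m, hm⟩ := H6.char_eq_sum_irr hφ
  have hm1 : m (triv G) = 1 := by rw [mult_triv hm, if_pos rfl]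
  have hf : (fd P fun g => (θ : G → ℂ) g * conj ((θ : G → ℂ) g)) = e * e + 4 * e + 1 := by
    have h2 := fd_mul_conj D hlt hθ
    rw [hd θ hθ, hc] at h2
    refine Nat.eq_of_mul_eq_mul_left hp.out.pos (Nat.add_right_cancel (m := e * e) ?_)
    rw [h2, hpA]; ring
  have n1 : fd (Nor P) (triv G : G → ℂ) = 1 := by
    have h2 := fd_Nor D hC (irr_chr (triv G)) (v := 1) fun _ _ _ => rfl
    rw [fd_triv D] at h2
    have : (fd (Nor P) (triv G : G → ℂ) : ℂ) = 1 := mul_left_cancel₀ he0 (by rw [h2]; push_cast; ring)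
    exact_mod_cast this
  have n2 : fd (Nor P) (χ : G → ℂ) = 1 := by
    have h2 := fd_Nor D hC (irr_chr χ) (v := 0) fun n hn hn' => (val θ hθ n hn hn').2
    rw [fA χ hχ'] at h2
    have : (fd (Nor P) (χ : G → ℂ) : ℂ) = 1 := mul_left_cancel₀ he0 (by rw [h2]; ring)
    exact_mod_cast this
  have n3 : ∀ θ' ∈ D.Y, fd (Nor P) (θ' : G → ℂ) = 1 := fun θ' hθ' => by
    have h2 := fd_Nor D hC (irr_chr θ') (v := 1) fun n hn hn' => (val θ' hθ' n hn hn').1
    rw [fY θ' hθ'] at h2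
    have : (fd (Nor P) (θ' : G → ℂ) : ℂ) = 1 := mul_left_cancel₀ he0 (by rw [h2]; push_cast; ring)
    exact_mod_cast this
  have n4 : (fd (Nor P) fun g => (θ : G → ℂ) g * conj ((θ : G → ℂ) g)) = e + 5 := by
    have h2 := fd_Nor D hC hφ (v := 1) fun n hn hn' => by rw [(val θ hθ n hn hn').1]; simp
    rw [hf] at h2
    have : ((fd (Nor P) fun g => (θ : G → ℂ) g * conj ((θ : G → ℂ) g) : ℕ) : ℂ) = (e + 5 : ℕ) :=
      mul_left_cancel₀ he0 (by rw [h2]; push_cast; ring)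
    exact_mod_cast this
  have hle := hF.le fun ψ => m ψ * fd (Nor P) (ψ : G → ℂ)
  rw [← fd_sum (Nor P) hm, n4, Fam.tot, hχ, Finset.sum_singleton, n1, n2, hm1,
    Finset.sum_congr (s₁ := D.Y) rfl (g := m) fun θ' hθ' => by rw [n3 θ' hθ', mul_one]] at hle
  haveI := Fintype.ofFinite P
  obtain ⟨L⟩ := PB_log D
  have h2 := sum_P_of_val L (φ := fun g => (θ : G → ℂ) g * conj ((θ : G → ℂ) g) -
      ∑ θ' ∈ D.Y, (m θ' : ℂ) * (θ' : G → ℂ) g) (F := fun _ => F.sg fun ψ => (m ψ : ℂ)) fun x hx hx1 => by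
    have h3 := hF.sing hC (fun ψ => (m ψ : ℂ)) x (PB_sing D hx hx1)
    have h4 := congrFun hm x
    simp only [Finset.sum_apply, Pi.smul_apply, smul_eq_mul] at h4
    rw [h4, h3, add_sub_cancel_right]
  have h3 : ∑ x : P, ∑ θ' ∈ D.Y, (m θ' : ℂ) * (θ' : G → ℂ) x = p * ((∑ θ' ∈ D.Y, m θ' : ℕ) : ℂ) := by
    rw [Finset.sum_comm, Nat.cast_sum, Finset.mul_sum]
    refine Finset.sum_congr rfl fun θ' hθ' => ?_
    rw [← Finset.mul_sum, ← card_mul_fd P (irr_chr θ'), fY θ' hθ', D.card]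
    push_cast; ring
  have h4 : ∑ θ' ∈ D.Y, (m θ' : ℂ) * (θ' : G → ℂ) 1 = c * ((∑ θ' ∈ D.Y, m θ' : ℕ) : ℂ) := by
    rw [Nat.cast_sum, Finset.mul_sum]
    exact Finset.sum_congr rfl fun θ' hθ' => by rw [dg_cast, hd θ' hθ', mul_comm]
  have h5 : (F.sg fun ψ => (m ψ : ℂ)) = 1 + m χ - ((∑ ζ ∈ F.Xz, m ζ : ℕ) : ℂ) := by
    rw [Fam.sg, hχ, hM, hB', hF.nN, hm1]; simp
  rw [Finset.sum_sub_distrib, ← card_mul_fd P hφ, h3, h4, h5, hf, D.card, dg_cast, map_natCast,
    hd θ hθ, Finset.sum_const, Finset.card_univ, ZMod.card, nsmul_eq_mul] at h2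
  generalize ∑ θ' ∈ D.Y, m θ' = S at h2 hle
  generalize ∑ ζ ∈ F.Xz, m ζ = Z at h2
  have h6 : (e : ℂ) * e + 1 + S + (e + 1) * Z = (e + 1) * (1 + m χ) := by
    apply mul_left_cancel₀ he0
    have h7 : (p : ℂ) = e * e + e + 1 := by exact_mod_cast hpA
    have h8 : (c : ℂ) = e * e + 2 * e + 1 := by exact_mod_cast hc
    rw [h7, h8] at h2
    push_cast at h2
    linear_combination h2
  have h7 : e * e + 1 + S + (e + 1) * Z = (e + 1) * (1 + m χ) := by exact_mod_cast h6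
  have h8 : 1 + m χ + S ≤ e + 5 := by omega
  have h9 : e + Z ≤ 1 + m χ := by
    by_contra h9
    have := Nat.mul_le_mul_left (e + 1) (show 1 + m χ + 1 ≤ e + Z by omega)
    nlinarith
  have := Nat.mul_le_mul_left (e + 1) h9
  nlinarith

end NPS
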