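import Mathlib
import Cfsg.Agent.Lib.NPS.Scal
import Cfsg.Agent.Lib.NPS.Bas
import Cfsg.Agent.Lib.NPS.Fam
import Cfsg.Agent.Lib.NPS.Nu2

/-! See `blueprint/NPS/README.md`. -/

set_option autoImplicit false
set_option linter.unusedSectionVars false
set_option linter.unusedVariables false
set_option linter.style.haveILetI false

open Cfsg H17.Ord H84 MulAction
open H86 (Cen Nor)
open scoped Pointwise ComplexConjugate

namespace NPS

variable {G : Type*} [Group G] [Finite G] {p : ℕ} [hp : Fact p.Prime] {P : Subgroup G}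
  {e t A B a c r : ℕ}

theorem Ctx.valB (h : Ctx p P e t A B a c r) (D : PB G p P e) (hC : Cen P = P)
    (F : Fam G p t A B a c) {y : G} (hy : y ∈ Nor P) (ho : orderOf y = e) :
    ∀ χ ∈ F.XB, (χ : G → ℂ) y = 0 := by
  intro χ hχ
  have hA := h.par.two
  have hAB := h.par.le
  obtain ⟨hyP, hgen⟩ := gen_of_order D hC (h.one_lt D) hy ho
  have hf : fd P χ = B := (h.fdA D F).2.2.2 χ hχ
  obtain ⟨s, hs, e1⟩ := dvd_val D hC hy hyP (F.dB χ hχ) (l := a) (by rw [h.idx, mul_comm])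
    (Nat.Coprime.mul_left h.par.cop_pB h.par.cop_aB).symm
  refine (zero_or_norm D hC hy hyP hs (by rw [hf, e1])).resolve_right fun e4 => ?_
  obtain ⟨m, m1, -, m3, -⟩ := scal D hC hy hyP hgen χ (by rw [hf]; omega) e4
  have e5 : m χ * dg χ ≤ ∑ ψ, m ψ * dg ψ :=
    Finset.single_le_sum (f := fun ψ => m ψ * dg ψ) (fun _ _ => Nat.zero_le _) (Finset.mem_univ χ)
  rw [m1, h.idx, m3, hf, F.dB χ hχ, ← mul_assoc] at e5
  have c0 : 0 < c := by have := h.par.hc; omega
  have e6 := Nat.le_of_mul_le_mul_right e5 c0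
  have e7 := h.par.mul
  have e8 := h.par.ha
  have e9 := Nat.mul_le_mul_right B hAB
  omega

theorem Ctx.sg_gen (h : Ctx p P e t A B a c r) (D : PB G p P e) (hC : Cen P = P)
    (F : Fam G p t A B a c) (hM : F.XM = ∅) {y : G} (hy : y ∈ Nor P) (ho : orderOf y = e) :
    ∃ s : ℂ, IsIntegral ℤ s ∧ F.sg (fun χ => (χ : G → ℂ) y) = 1 + A * s := by
  have hA := h.par.two
  have a0 : (A : ℂ) ≠ 0 := Nat.cast_ne_zero.2 (by omega)
  obtain ⟨hyP, -⟩ := gen_of_order D hC (h.one_lt D) hy ho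
  refine ⟨∑ χ ∈ F.XA, (χ : G → ℂ) y / A, IsIntegral.sum _ fun χ hχ => ?_, ?_⟩
  · obtain ⟨s, hs, e1⟩ := dvd_val D hC hy hyP (F.dA χ hχ) h.idx
      (Nat.Coprime.mul_left h.par.cop_pA h.par.cop_cA).symm
    rwa [e1, mul_div_cancel_left₀ _ a0]
  · have e1 : ∑ χ ∈ F.Xz, (χ : G → ℂ) y = 0 :=
      Finset.sum_eq_zero fun χ hχ => val_zero D hC hy hyP ((h.fdA D F).2.2.1 χ hχ)
    have e2 : ∑ χ ∈ F.XB, (χ : G → ℂ) y = 0 := Finset.sum_eq_zero (h.valB D hC F hy ho)
    rw [Fam.sg, hM, (h.XM_le D hC F).2, e1, e2, Finset.sum_empty, ← Finset.sum_div,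
      mul_div_cancel₀ _ a0, triv_apply]
    simp

theorem Ctx.t1 (h : Ctx p P e t A B a c r) (D : PB G p P e) (hC : Cen P = P) : t ≠ 1 := by
  rintro rfl
  have hA := h.par.two
  obtain ⟨F, hF⟩ := exists_one h D rfl
  obtain ⟨hM, hN⟩ := h.XM_le D hC F
  have hz : F.Xz = ∅ := Finset.eq_empty_of_forall_notMem fun χ hχ =>
    absurd (h.even_t D hC (F.dz χ hχ)) (by decide)
  rcases Nat.le_one_iff_eq_zero_or_eq_one.1 hM with h0 | h1
  · obtain ⟨y, hy, ho⟩ := exists_gen D hC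
    obtain ⟨hyP, -⟩ := gen_of_order D hC (h.one_lt D) hy ho
    obtain ⟨s, hs, e1⟩ := h.sg_gen D hC F (Finset.card_eq_zero.1 h0) hy ho
    have := nt2 hs (e1.symm.trans (hF.rel y (reg_of_not_mem D hC hy hyP)))
    omega
  · have e1 := hF.cnt
    have e2 := hF.deg
    have e3 := hF.le fun χ => fd P χ * dg χ
    have he : e = p - 1 := by have := h.ht; omega
    have s1 : ∑ χ ∈ F.XM, fd P χ * dg χ = (r + 1) * (a * c) := by
      rw [Finset.sum_congr rfl fun χ h' => by rw [(h.fdA D F).2.1 χ h', F.dM χ h'], Finset.sum_const,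
        h1, one_smul]
    have s2 : ∑ χ ∈ F.XB, fd P χ * dg χ = F.XB.card * (B * (B * c)) := by
      rw [Finset.sum_congr rfl fun χ h' => by rw [(h.fdA D F).2.2.2 χ h', F.dB χ h'], Finset.sum_const,
        smul_eq_mul]
    rw [sum_fd_dg, index_P D hC, h.idx, Fam.tot, s1, s2, he] at e3
    rw [Fam.n, h1, hz, hN, Finset.card_empty] at e1
    rw [h1, hz, hN, Finset.card_empty, one_mul, zero_mul, zero_mul, zero_add, add_zero] at e2
    exact h.par.t1num (nA := F.XA.card) (nB := F.XB.card) (by omega) e2 (by omega)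

theorem Ctx.t2 (h : Ctx p P e t A B a c r) (D : PB G p P e) (hC : Cen P = P) (h2 : 2 ≤ t)
    {θ : IrrCharacter G} (hθ : θ ∈ D.Y) (hδ : D.δ = -1) : t * dg θ ≠ A * a := by
  intro hd
  have hp1 : p - 1 = t * e := by have := h.ht; omega
  obtain ⟨b, hb⟩ := h.par.dvd_A (t := t) ⟨e, hp1⟩ ⟨_, hd.symm⟩
  have t0 : 0 < t := by omega
  have hd' : dg θ = b * a := Nat.eq_of_mul_eq_mul_left t0 (by rw [hd, hb, mul_assoc])
  have he : e = b * B := Nat.eq_of_mul_eq_mul_left t0 (by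
    have := h.par.mul
    have := h.ht
    have : t * (b * B) = A * B := by rw [hb]; ring
    omega)
  obtain ⟨F, hF⟩ := exists_two h D h2
  have hM := h.XM_empty D hC h2 F
  obtain ⟨y, hy, ho⟩ := exists_gen D hC
  obtain ⟨hyP, -⟩ := gen_of_order D hC (h.one_lt D) hy ho
  have hbA : b ∣ A := ⟨t, by rw [hb, mul_comm]⟩
  obtain ⟨s', hs', e1⟩ := dvd_val D hC hy hyP hd' h.idx
    ((Nat.Coprime.mul_left h.par.cop_pA h.par.cop_cA).symm.coprime_dvd_left hbA)
  obtain ⟨s, hs, e2⟩ := h.sg_gen D hC F hM hy ho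
  have e3 := hF.rel θ hθ y (reg_of_not_mem D hC hy hyP)
  rw [e2, e1, hδ, hb] at e3
  have b1 : b = 1 := nt2 (s := t * s + s') (((isIntegral_natCast t).mul hs).add hs') (by
    push_cast at e3
    linear_combination -e3)
  rw [b1, mul_one] at hb
  rw [b1, one_mul] at hd' he
  subst hb
  have e4 := hF.deg_neg hθ hδ
  have e5 := hF.cnt
  rw [hM, hd', Finset.card_empty, zero_mul, add_zero] at e4
  rw [Fam.n, hM, hF.nN, he, Finset.card_empty, add_zero, add_zero] at e5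
  exact h.par.t2num (h.even D hC) e5 (fun e => F.tA (Finset.card_ne_zero.1 e)) e4

end NPS
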