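import Mathlib
import Cfsg.Agent.Lib.NPS.T12
import Cfsg.Agent.Lib.NPS.C3a
import Cfsg.Agent.Lib.NPS.C3b

/-! See `blueprint/NPS/README.md`. -/

set_option autoImplicit false
set_option linter.unusedSectionVars false
set_option linter.unusedVariables false
set_option linter.style.haveILetI false

open Cfsg H17.Ord H84 MulAction
open H86 (Cen Nor)
open scoped Pointwise ComplexConjugate

namespace NPS

variable {G : Type*} [Group G] [Finite G] {p : ℕ} [hp : Fact p.Prime] {P : Subgroup G}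
  {e t A B a c r : ℕ}

theorem T3.valA (h : Ctx p P e t A B a c r) (D : PB G p P e) (hC : Cen P = P) {F : Fam G p t A B a c}
    (hF : F.Two D) (hM : F.XM = ∅) (hB : F.XB = ∅) {θ : IrrCharacter G} (hθ : θ ∈ D.Y) (hδ : D.δ = -1)
    {y : G} (hy : y ∈ Nor P) (ho : orderOf y = e) {χ : IrrCharacter G} (hχ : χ ∈ F.XA) :
    (χ : G → ℂ) y = 0 := by
  obtain ⟨hyP, hgen⟩ := gen_of_order D hC (h.one_lt D) hy ho
  obtain ⟨fA, -, fz, -⟩ := h.fdA D F
  have h2 := h.par.two
  obtain ⟨s, hs, es⟩ := dvd_val D hC hy hyP (F.dA χ hχ) h.idx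
    (Nat.Coprime.mul_right h.par.cop_pA.symm h.par.cop_cA.symm)
  refine (zero_or_norm D hC hy hyP hs (by rw [es, fA χ hχ])).resolve_right fun hn => ?_
  obtain ⟨m, -, m1, m2, m3, m4, -⟩ := scal D hC hy hyP hgen χ (by rw [fA χ hχ]; omega) hn
  obtain ⟨x, hx, ox⟩ := D.exists_sing
  have x1 : x ≠ 1 := fun k => hp.out.one_lt.ne (by rw [← ox, k, orderOf_one])
  have e1 := hF.sing hC (fun ψ => (m ψ : ℂ)) x (ox ▸ dvd_rfl)
  have e2 : ∑ θ' ∈ D.Y, (m θ' : ℂ) * (θ' : G → ℂ) x = m θ := by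
    rw [Finset.sum_congr rfl fun θ' h' => by
      rw [m4 θ' θ (D.regY θ' h' θ hθ) (by
        have k1 := fdY D h'
        rw [D.dgY h' hθ, ← fdY D hθ] at k1
        exact_mod_cast mul_left_cancel₀ (Int.natCast_ne_zero.2 hp.out.ne_zero) k1)],
      ← Finset.mul_sum, D.sumY x (ox ▸ dvd_rfl), hδ]
    simp
  have e3 : ∑ ψ ∈ F.Xz, (m ψ : ℂ) = 0 := Finset.sum_eq_zero fun ψ hψ => by
    have := m3 ψ
    rw [fz ψ hψ, Nat.le_zero] at this
    rw [this, Nat.cast_zero]
  rw [m1 x hx x1, e2, Fam.sg, hM, hB, hF.nN, e3] at e1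
  simp only [Finset.sum_empty, add_zero, sub_zero] at e1
  have e4 : 1 = m (triv G) + ∑ ψ ∈ F.XA, m ψ + m θ := by exact_mod_cast e1
  have := Finset.single_le_sum (f := m) (fun _ _ => Nat.zero_le _) hχ
  rw [m2, fA χ hχ] at this
  omega

theorem Ctx.t3 (h : Ctx p P e t A B a c r) (D : PB G p P e) (hC : Cen P = P) (h2 : 2 ≤ t)
    {θ : IrrCharacter G} (hθ : θ ∈ D.Y) (hδ : D.δ = -1) : t * dg θ ≠ a * c := by
  intro hd
  obtain ⟨F, hF⟩ := exists_two h D h2
  have hM := h.XM_empty D hC h2 F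
  have ht := h.ht
  have hP := h.par
  have p0 := hp.out.pos
  have fY : ∀ θ' ∈ D.Y, p * fd P θ' = dg θ + e := fun θ' h' => by
    have := fdY D h'
    rw [hδ, D.dgY h' hθ] at this
    zify
    linear_combination this
  have hm : t * fd P θ = r + 1 := by
    refine Nat.eq_of_mul_eq_mul_left p0 ?_
    have k1 := fY θ hθ
    have k2 := hP.M_eq
    zify at *
    linear_combination t * k1 + hd + ht + k2
  have cY : D.Y.card = t := by
    rw [D.cardY, show p - 1 = t * e by omega, Nat.mul_div_cancel _ D.e_pos]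
  have hme : fd P θ < e := by
    have k1 := hF.le fun χ => fd P χ * dg χ
    rw [sum_fd_dg, index_P D hC, h.idx, Finset.sum_congr rfl (g := fun _ => fd P θ * dg θ) fun θ' h' => by
      rw [D.dgY h' hθ, Nat.eq_of_mul_eq_mul_left p0 ((fY θ' h').trans (fY θ hθ).symm)],
      Finset.sum_const, cY, smul_eq_mul, mul_left_comm, hd, Fam.tot, fd_triv D, dg_triv] at k1
    exact lt_of_mul_lt_mul_right (a := a * c) (by omega) (Nat.zero_le _)
  have hB : F.XB = ∅ := by
    by_contra hB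
    have nB := Finset.nonempty_iff_ne_empty.2 hB
    have hA : F.XA = ∅ := by
      by_contra hA
      have := hP.eq_one (F.tB nB) (F.tA (Finset.nonempty_iff_ne_empty.2 hA)) ⟨_, hd.symm⟩
      omega
    have k1 := hF.deg_neg hθ hδ
    have k2 := hF.cnt
    have k3 := fY θ hθ
    have k4 := hP.Y_eq
    have k5 := nB.card_pos
    have k6 := Nat.mul_le_mul k5 (hP.two.trans hP.le)
    rw [Fam.n, hA, hM, hF.nN] at k2
    rw [hA, hM] at k1
    simp only [Finset.card_empty, zero_mul, add_zero] at k1 k2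
    have : fd P θ = F.Xz.card + F.XB.card * B + F.XB.card := by
      refine Nat.eq_of_mul_eq_mul_left p0 ?_
      zify [show 1 ≤ p from p0] at k1 k2 k3 k4 ⊢
      linear_combination k3 + k1 - k2 + F.XB.card * k4
    omega
  have he := h.one_lt D
  have hv : ∀ y ∈ Nor P, orderOf y = e → (θ : G → ℂ) y = -1 := fun y hy ho => by
    have hyP := (gen_of_order D hC he hy ho).1
    have k1 := hF.rel θ hθ y (reg_of_not_mem D hC hy hyP)
    rw [hδ, Fam.sg, hM, hB, hF.nN, Finset.sum_eq_zero fun χ hχ => T3.valA h D hC hF hM hB hθ hδ hy ho hχ,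
      Finset.sum_eq_zero (s := F.Xz) fun χ hχ => val_zero D hC hy hyP ((h.fdA D F).2.2.1 χ hχ),
      triv_apply] at k1
    simp only [Finset.sum_empty, add_zero, sub_zero] at k1
    push_cast at k1
    linear_combination -k1
  obtain ⟨y, hy, ho⟩ := exists_gen D hC
  have := c3b D hC he hy ho (c3 D hC ht he hθ (hd.trans h.idx.symm) hv hy ho)
  rw [h.idx] at this
  exact hP.t3num ht h2 hm hme this

end NPS
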