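import Mathlib
import Cfsg.Agent.Lib.NPS.T12

/-! The case `δ = 1`, `t * dg θ = B * c`. -/

set_option autoImplicit false
set_option linter.unusedSectionVars false
set_option linter.unusedVariables false
set_option linter.style.haveILetI false

open Cfsg H17.Ord H84 MulAction
open H86 (Cen Nor)
open scoped Pointwise ComplexConjugate

namespace NPS

variable {G : Type*} [Group G] [Finite G] {p : ℕ} [hp : Fact p.Prime] {P : Subgroup G}
  {e t A B a c r : ℕ}

theorem T4.num {p A B a c r b : ℕ} (h : Par p A B a c r) (h1 : b * (A * a) + b * (B * c) ≤ a * c) :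
    b * (A + B) ≤ r := by
  have e1 := h.X_eq
  have e2 := h.Y_eq
  have e3 := h.M_eq
  have e4 := h.five_le
  have e5 : A * a + B * c = (A + B) * p := by
    have : A * a + p + (B * c + 1) = A * p + 1 + (B + 1) * p := by rw [e1, e2]
    linarith
  rw [← mul_add, e5, e3, ← mul_assoc] at h1
  by_contra hlt
  have := Nat.mul_le_mul_right p (Nat.succ_le_of_lt (not_le.1 hlt))
  rw [Nat.succ_mul] at this
  omega

theorem Ctx.t4a (h : Ctx p P e t A B a c r) (D : PB G p P e) (hC : Cen P = P) (h2 : 2 ≤ t)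
    {θ : IrrCharacter G} (hθ : θ ∈ D.Y) (hδ : D.δ = 1) (hd : t * dg θ = B * c) : t = B := by
  have hp1 : p - 1 = t * e := by have := h.ht; omega
  have hA := h.par.two
  have hAB := h.par.le
  obtain ⟨b, hb⟩ := h.par.dvd_B (t := t) ⟨e, hp1⟩ ⟨_, hd.symm⟩
  have b0 : b ≠ 0 := by rintro rfl; omega
  have t0 : 0 < t := by omega
  have hd' : dg θ = b * c := Nat.eq_of_mul_eq_mul_left t0 (by rw [hd, hb, mul_assoc])
  have he : e = A * b := Nat.eq_of_mul_eq_mul_left t0 (by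
    have := h.par.mul
    have := h.ht
    have : t * (A * b) = A * B := by rw [hb]; ring
    omega)
  have n1 : ¬ p ∣ orderOf (1 : G) := by rw [orderOf_one]; exact hp.out.not_dvd_one
  have dY : ∀ θ' ∈ D.Y, dg θ' = b * c := fun θ' h' => by
    have := D.regY θ' h' θ hθ 1 n1
    rw [dg_cast, dg_cast, hd'] at this
    exact_mod_cast this
  have fY : ∀ θ' ∈ D.Y, fd P θ' = b := fun θ' h' => by
    have := fdY D h'
    rw [dY θ' h', hδ, he, h.par.hc] at this
    have h3 : (p : ℤ) * fd P θ' = p * b := by rw [this]; push_cast; ring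
    exact_mod_cast mul_left_cancel₀ (Nat.cast_ne_zero.2 hp.out.ne_zero) h3
  obtain ⟨F, hF⟩ := exists_two h D h2
  have hM := h.XM_empty D hC h2 F
  obtain ⟨y, hy, ho⟩ := exists_gen D hC
  obtain ⟨hyP, hgen⟩ := gen_of_order D hC (h.one_lt D) hy ho
  have hbB : b ∣ B := ⟨t, by rw [hb, mul_comm]⟩
  obtain ⟨s', hs', e1⟩ := dvd_val D hC hy hyP hd' (l := a) (by rw [h.idx, mul_comm])
    ((Nat.Coprime.mul_left h.par.cop_pB h.par.cop_aB).symm.coprime_dvd_left hbB)
  obtain ⟨s, hs, e2⟩ := h.sg_gen D hC F hM hy ho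
  have e3 : (θ : G → ℂ) y = 1 + A * s := by
    rw [← e2, ← hF.rel θ hθ y (reg_of_not_mem D hC hy hyP), hδ, Int.cast_one, one_mul]
  have e4 := (zero_or_norm D hC hy hyP hs' (by rw [fY θ hθ, e1])).resolve_left fun e => by
    have := nt2 hs (e3 ▸ e)
    omega
  obtain ⟨m, m1, m2, m3, m4, m5, m6⟩ := scal D hC hy hyP hgen θ (by rw [fY θ hθ]; exact b0) e4
  have mY : ∀ θ' ∈ D.Y, m θ' = b := fun θ' h' => by
    rw [m5 θ' θ (D.regY θ' h' θ hθ) (by rw [fY θ' h', fY θ hθ]), m3, fY θ hθ]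
  obtain ⟨x, hx, x1⟩ : ∃ x ∈ P, x ≠ 1 := by
    refine (Subgroup.nontrivial_iff_exists_ne_one P).1 ?_
    rw [← Finite.one_lt_card_iff_nontrivial, D.card]
    exact hp.out.one_lt
  have e5 := hF.sing hC (fun χ => m χ) x (PB_sing D hx x1)
  have e6 : ∑ θ' ∈ D.Y, (m θ' : ℂ) * (θ' : G → ℂ) x = -b := by
    rw [Finset.sum_congr rfl fun θ' h' => by rw [mY θ' h'], ← Finset.mul_sum, D.sumY x (PB_sing D hx x1), hδ]
    simp
  rw [m2 x hx x1, e6, Fam.sg, hM, hF.nN, Finset.sum_empty] at e5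
  have e7 : m (triv G) + ∑ χ ∈ F.XA, m χ = 1 + b + ∑ χ ∈ F.Xz, m χ + ∑ χ ∈ F.XB, m χ := by
    have : ((m (triv G) + ∑ χ ∈ F.XA, m χ : ℕ) : ℂ) =
        (1 + b + ∑ χ ∈ F.Xz, m χ + ∑ χ ∈ F.XB, m χ : ℕ) := by
      push_cast
      linear_combination -e5
    exact_mod_cast this
  have e8 := m4 (triv G)
  rw [fd_triv D] at e8
  have e9 := hF.le fun χ => m χ * dg χ
  have cY : D.Y.card = t := by
    rw [D.cardY, hp1, Nat.mul_div_cancel _ (lt_trans one_pos (h.one_lt D))]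
  have s1 : ∑ θ' ∈ D.Y, m θ' * dg θ' = t * (b * (b * c)) := by
    rw [Finset.sum_congr rfl fun θ' h' => by rw [mY θ' h', dY θ' h'], Finset.sum_const, cY, smul_eq_mul]
  have s2 : ∑ χ ∈ F.XA, m χ * dg χ = (∑ χ ∈ F.XA, m χ) * (A * a) := by
    rw [Finset.sum_congr rfl fun χ h' => by rw [F.dA χ h'], ← Finset.sum_mul]
  rw [m1, h.idx, Fam.tot, s1, s2] at e9
  have e10 : b * (A + B) ≤ r := T4.num h.par (by
    have f1 := Nat.mul_le_mul_right (A * a) (show b ≤ ∑ χ ∈ F.XA, m χ by omega)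
    have f2 : b * (B * c) = t * (b * (b * c)) := by rw [hb]; ring
    omega)
  have e11 := h.par.r_eq
  have b1 : b = 1 := by
    rcases hA.eq_or_lt with e | e
    · subst e
      by_contra hne
      have := Nat.mul_le_mul_right (2 + B) (show 2 ≤ b by omega)
      omega
    · refine (nt1 (w := (θ : G → ℂ) y / b) (n := orderOf y) (orderOf_pos y) (by rwa [fY θ hθ] at m6) hs
        (by rw [mul_div_cancel₀ _ (Nat.cast_ne_zero.2 b0), e3]) ?_).1
      by_contra hle
      have f1 := Nat.mul_le_mul_right (A + B) (show A ≤ b + 1 by omega)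
      nlinarith
  rw [hb, b1, mul_one]

theorem Ctx.t4 (h : Ctx p P e t A B a c r) (D : PB G p P e) (hC : Cen P = P) (h2 : 2 ≤ t)
    {θ : IrrCharacter G} (hθ : θ ∈ D.Y) (hδ : D.δ = 1) (hd : t * dg θ = B * c)
    {F : Fam G p t A B a c} (hF : F.Two D) :
    t = B ∧ e = A ∧ dg θ = c ∧ F.XA.card = 1 ∧ F.XM = ∅ ∧ F.XB = ∅ ∧ F.Xz.card + 2 = A ∧
      (A = 2 ∨ (B = A + 1 ∧ Odd A)) := by
  have h1 := h.t4a D hC h2 hθ hδ hd
  subst h1
  have t0 : 0 < t := by omega
  have he : e = A := Nat.eq_of_mul_eq_mul_left t0 (by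
    have := h.par.mul
    have := h.ht
    have := mul_comm t A
    omega)
  have hd' : dg θ = c := Nat.eq_of_mul_eq_mul_left t0 hd
  have hM := h.XM_empty D hC h2 F
  have e1 := hF.deg_pos hθ hδ
  have e2 := hF.cnt
  rw [hM, hd', Finset.card_empty, zero_mul, add_zero] at e1
  rw [Fam.n, hM, hF.nN, he, Finset.card_empty, add_zero, add_zero] at e2
  obtain ⟨f1, f2, f3, f4⟩ := h.par.t4num (h.even D hC) e2 (fun e => F.tB (Finset.card_ne_zero.1 e))
    (fun e => F.tz (Finset.card_ne_zero.1 e)) e1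
  refine ⟨rfl, he, hd', f1, hM, Finset.card_eq_zero.1 f2, f3, ?_⟩
  by_cases e : A = 2
  · exact Or.inl e
  obtain ⟨χ, hχ⟩ := Finset.card_ne_zero.1 (show F.Xz.card ≠ 0 by omega)
  have f5 := h.even_t D hC (F.dz χ hχ)
  have f6 := f4.resolve_left e
  exact Or.inr ⟨f6, Nat.not_even_iff_odd.1 (Nat.even_add_one.1 (f6 ▸ f5))⟩

end NPS
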